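import Mathlib.RingTheory.MvPolynomial.Ideal
import Mathlib.RingTheory.MvPolynomial.WeightedHomogeneous
import Mathlib.RingTheory.LocalRing.Module
import Mathlib.RingTheory.Localization.Module
import Mathlib.RingTheory.Spectrum.Prime.Basic
import Mathlib.Algebra.DirectSum.Decomposition
import Mathlib.Algebra.Module.Projective
import Mathlib.Algebra.Module.FinitePresentation
import Mathlib.RingTheory.Flat.Stability
import Mathlib.RingTheory.Finiteness.Projective
import Mathlib.RingTheory.Localization.BaseChange

/-!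
# Graded projective modules over polynomial rings are locally graded-free
-/

set_option autoImplicit false
set_option linter.unusedSectionVars false
set_option linter.style.haveILetI false

universe u v

open MvPolynomial DirectSum

noncomputable section

namespace Groth.Agent.GradedFree

section Local

variable {R : Type u} [CommRing R] {Q : Type v} [AddCommGroup Q] [Module R Q]

/-- Among generators of a finite projective module some freely generate near a given prime. -/
theorem exists_basis_near [Module.Finite R Q] [Module.Projective R Q] {k : ℕ} (g : Fin k → Q)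
    (hg : Submodule.span R (Set.range g) = ⊤) (p : Ideal R) [hp : p.IsPrime] :
    ∃ (r : R) (m : ℕ) (a : Fin m → Fin k), r ∉ p ∧ (∀ q : Q, ∃ c : Fin m → R, r • q = ∑ i, c i • g (a i)) ∧
      ∀ c : Fin m → R, ∑ i, c i • g (a i) = 0 → ∀ i, r * c i = 0 := by
  classical
  let S := p.primeCompl
  let Rp := Localization S
  let L := LocalizedModule.mkLinearMap S Q
  haveI : IsLocalRing Rp := IsLocalization.AtPrime.isLocalRing Rp p
  haveI : Module.Finite Rp (LocalizedModule S Q) := Module.Finite.of_isLocalizedModule S L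
  haveI : Module.Flat Rp (LocalizedModule S Q) := Module.Flat.of_isLocalizedModule Rp S L
  haveI : Module.FinitePresentation R Q := Module.finitePresentation_of_projective R Q
  haveI : Module.FinitePresentation Rp (LocalizedModule S Q) :=
    FinitePresentation.of_isBaseChange L (IsLocalizedModule.isBaseChange S Rp L)
  have hspan : Submodule.span Rp (Set.range fun j => L (g j)) = ⊤ := by
    have := span_eq_top_of_isLocalizedModule Rp S L hg
    rwa [← Set.range_comp] at this
  obtain ⟨κ, a, b, hb⟩ := Module.exists_basis_of_span_of_flat (fun j => L (g j)) hspan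
  haveI : Finite κ := Module.Finite.finite_basis b
  obtain ⟨m, ⟨e⟩⟩ := Finite.exists_equiv_fin κ
  let a' : Fin m → Fin k := fun i => a (e.symm i)
  let b' := b.reindex e
  have hb' : ∀ i, b' i = L (g (a' i)) := fun i => by rw [Module.Basis.reindex_apply, hb]
  let ψ := Fintype.linearCombination R (g ∘ a')
  have hψ : ∀ c, ψ c = ∑ i, c i • g (a' i) := fun c => Fintype.linearCombination_apply R _ c
  have hL : ∀ c : Fin m → R, L (ψ c) = ∑ i, algebraMap R Rp (c i) • b' i := fun c => by
    rw [hψ, map_sum]
    simp only [map_smul, hb', algebraMap_smul]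
  have hsurj : ∀ q : Q, ∃ s : S, ∃ c, s.1 • q = ψ c := by
    intro q
    obtain ⟨d, hd⟩ := IsLocalization.exist_integer_multiples_of_finite S (fun i => b'.repr (L q) i)
    choose c hc using hd
    have h : L (d.1 • q) = L (ψ c) := by
      rw [hL, map_smul]
      conv_lhs => rw [← b'.sum_repr (L q), Finset.smul_sum]
      refine Finset.sum_congr rfl fun i _ => ?_
      rw [hc i, smul_assoc]
    obtain ⟨s, hs⟩ := IsLocalizedModule.exists_of_eq (S := S) h
    refine ⟨s * d, s.1 • c, ?_⟩
    rw [map_smul, Submonoid.coe_mul, mul_smul]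
    exact hs
  choose s c hc using fun j => hsurj (g j)
  let σ := Fintype.linearCombination R g
  have hσ : Function.Surjective σ :=
    LinearMap.range_eq_top.1 (by rw [Fintype.range_linearCombination, hg])
  obtain ⟨τ, hτ⟩ := Module.projective_lifting_property σ LinearMap.id hσ
  let s₀ : S := ∏ j, s j
  let ν : Q →ₗ[R] (Fin m → R) :=
    Fintype.linearCombination R (fun j => (∏ i ∈ Finset.univ.erase j, (s i).1) • c j) ∘ₗ τ
  have hν : ∀ q, ψ (ν q) = s₀.1 • q := by
    intro q
    show ψ (Fintype.linearCombination R _ (τ q)) = _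
    conv_rhs => rw [← LinearMap.id_apply (R := R) q, ← hτ, LinearMap.comp_apply]
    simp only [σ, Fintype.linearCombination_apply, map_sum, map_smul, ← hc, Finset.smul_sum, smul_smul]
    refine Finset.sum_congr rfl fun j _ => congrArg (· • g j) ?_
    have h1 : (∏ i ∈ Finset.univ.erase j, (s i).1) * (s j).1 = s₀.1 := by
      rw [Finset.prod_erase_mul _ _ (Finset.mem_univ j)]
      exact (map_prod S.subtype s Finset.univ).symm
    rw [← h1]
    ring
  let E : (Fin m → R) →ₗ[R] (Fin m → R) := s₀.1 • LinearMap.id - ν ∘ₗ ψ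
  have hE : ∀ i, ∃ t : S, t.1 • E (Pi.single i 1) = 0 := by
    intro i
    have h0 : ψ (E (Pi.single i 1)) = 0 := by
      simp only [E, LinearMap.sub_apply, LinearMap.smul_apply, LinearMap.id_apply, LinearMap.comp_apply,
        map_sub, map_smul, hν, sub_self]
    have h1 := congrArg L h0
    rw [hL, map_zero] at h1
    have h2 := Fintype.linearIndependent_iff.1 b'.linearIndependent _ h1
    choose t ht using fun j => (IsLocalization.map_eq_zero_iff S Rp _).1 (h2 j)
    refine ⟨∏ j, t j, funext fun j => ?_⟩
    show (∏ j, t j : S).1 * E (Pi.single i 1) j = 0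
    obtain ⟨w, hw⟩ := Finset.dvd_prod_of_mem t (Finset.mem_univ j)
    rw [hw, Submonoid.coe_mul, mul_comm _ w.1, mul_assoc, ht j, mul_zero]
  choose t ht using hE
  let t₀ : S := ∏ i, t i
  have hEz : ∀ c, t₀.1 • E c = 0 := by
    intro c
    have : t₀.1 • E = 0 := by
      refine LinearMap.pi_ext' fun i => LinearMap.ext_ring ?_
      show t₀.1 • E (Pi.single i 1) = 0
      obtain ⟨w, hw⟩ := Finset.dvd_prod_of_mem t (Finset.mem_univ i)
      rw [show t₀ = t i * w from hw, Submonoid.coe_mul, mul_comm, mul_smul, ht, smul_zero]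
    exact LinearMap.congr_fun this c
  refine ⟨t₀.1 * s₀.1, m, a', (t₀ * s₀).2, fun q => ⟨t₀.1 • ν q, ?_⟩, fun c hc i => ?_⟩
  · rw [← hψ, map_smul, hν, smul_smul]
  · have h := congrFun (hEz c) i
    rw [← hψ] at hc
    simpa [E, hc, mul_assoc] using h

end Local

variable {R : Type u} [CommRing R] {n : ℕ}
  {P : Type v} [AddCommGroup P] [Module (MvPolynomial (Fin n) R) P] [Module R P]
  [IsScalarTower R (MvPolynomial (Fin n) R) P]
  (ℳ : (Fin n → ℤ) → Submodule R P) [DirectSum.Decomposition ℳ]

/-- Homogeneous component. -/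
def pr (d : Fin n → ℤ) : P →ₗ[R] P :=
  (ℳ d).subtype ∘ₗ DirectSum.component R _ _ d ∘ₗ (DirectSum.decomposeLinearEquiv ℳ).toLinearMap

theorem pr_apply (d : Fin n → ℤ) (y : P) : pr ℳ d y = (DirectSum.decompose ℳ y d : P) := rfl

theorem pr_mem (d : Fin n → ℤ) (y : P) : pr ℳ d y ∈ ℳ d := (DirectSum.decompose ℳ y d).2

theorem pr_same {d : Fin n → ℤ} {y : P} (h : y ∈ ℳ d) : pr ℳ d y = y :=
  DirectSum.decompose_of_mem_same ℳ h

theorem pr_ne {d e : Fin n → ℤ} {y : P} (h : y ∈ ℳ d) (hne : d ≠ e) : pr ℳ e y = 0 :=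
  DirectSum.decompose_of_mem_ne ℳ h hne

theorem C_smul (r : R) (y : P) : (C r : MvPolynomial (Fin n) R) • y = r • y := by
  rw [← MvPolynomial.algebraMap_eq, algebraMap_smul]

variable [SetLike.GradedSMul (MvPolynomial.weightedHomogeneousSubmodule R
  (fun i : Fin n => (Pi.single i 1 : Fin n → ℤ))) ℳ]

theorem X_smul_mem (i : Fin n) {e : Fin n → ℤ} {z : P} (hz : z ∈ ℳ e) :
    (X i : MvPolynomial (Fin n) R) • z ∈ ℳ (Pi.single i 1 + e) :=
  SetLike.GradedSMul.smul_mem (A := MvPolynomial.weightedHomogeneousSubmodule R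
    (fun i : Fin n => (Pi.single i 1 : Fin n → ℤ)))
    ((mem_weightedHomogeneousSubmodule _ _ _ _).2 (isWeightedHomogeneous_X _ _ i)) hz

theorem pr_X_smul (i : Fin n) (d : Fin n → ℤ) (z : P) :
    pr ℳ d ((X i : MvPolynomial (Fin n) R) • z) =
      (X i : MvPolynomial (Fin n) R) • pr ℳ (d - Pi.single i 1) z := by
  induction z using DirectSum.Decomposition.inductionOn ℳ with
  | zero => simp
  | @homogeneous e z =>
    have h := X_smul_mem ℳ i z.2
    by_cases he : Pi.single i 1 + e = d
    · rw [show d - Pi.single i 1 = e by rw [← he]; abel, pr_same ℳ z.2, ← he, pr_same ℳ h]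
    · rw [pr_ne ℳ h he, pr_ne ℳ z.2 (fun h' => he (by rw [h']; abel)), smul_zero]
  | add a b ha hb => rw [smul_add, map_add, map_add, smul_add, ha, hb]

/-- Degree. -/
def tot (d : Fin n → ℤ) : ℤ := ∑ i, d i

theorem tot_sub_single (d : Fin n → ℤ) (i : Fin n) : tot (d - Pi.single i 1) = tot d - 1 := by
  simp [tot, Finset.sum_sub_distrib]

theorem exists_homogeneous_generators [Module.Finite (MvPolynomial (Fin n) R) P] :
    ∃ (k : ℕ) (g : Fin k → P) (δ : Fin k → Fin n → ℤ), (∀ j, g j ∈ ℳ (δ j)) ∧
      Submodule.span (MvPolynomial (Fin n) R) (Set.range g) = ⊤ := by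
  classical
  obtain ⟨G, hG⟩ := Module.Finite.fg_top (R := MvPolynomial (Fin n) R) (M := P)
  let σ := G.sigma fun y => (DirectSum.decompose ℳ y).support
  refine ⟨σ.card, fun j => pr ℳ (σ.equivFin.symm j).1.2 (σ.equivFin.symm j).1.1,
    fun j => (σ.equivFin.symm j).1.2, fun j => pr_mem ℳ _ _, eq_top_iff.2 ?_⟩
  rw [← hG, Submodule.span_le]
  intro y hy
  rw [SetLike.mem_coe, ← DirectSum.sum_support_decompose ℳ y]
  refine Submodule.sum_mem _ fun d hd => ?_
  refine Submodule.subset_span ⟨σ.equivFin ⟨⟨y, d⟩, Finset.mem_sigma.2 ⟨hy, hd⟩⟩, ?_⟩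
  simp only [Equiv.symm_apply_apply]
  rfl

theorem exists_lower_bound [Module.Finite (MvPolynomial (Fin n) R) P] :
    ∃ D : ℤ, ∀ d, tot d < D → ∀ y, pr ℳ d y = 0 := by
  classical
  obtain ⟨k, g, δ, hg, hspan⟩ := exists_homogeneous_generators ℳ
  obtain ⟨D, hD⟩ : ∃ D : ℤ, ∀ j, D ≤ tot (δ j) := by
    obtain ⟨D, hD⟩ := Finite.exists_le fun j => - tot (δ j)
    exact ⟨-D, fun j => by linarith [hD j]⟩
  refine ⟨D, fun d hd y => ?_⟩
  have hy := hspan.ge (Submodule.mem_top (x := y))
  induction hy using Submodule.span_induction generalizing d with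
  | mem y hy =>
    obtain ⟨j, rfl⟩ := hy
    exact pr_ne ℳ (hg j) fun h => by have := hD j; rw [h] at this; omega
  | zero => exact map_zero _
  | add a b _ _ ha hb => rw [map_add, ha d hd, hb d hd, add_zero]
  | smul a y _ hy =>
    induction a using MvPolynomial.induction_on generalizing d with
    | C r => rw [C_smul, map_smul, hy d hd, smul_zero]
    | add a b ha hb => rw [add_smul, map_add, ha d hd, hb d hd, add_zero]
    | mul_X a i ha =>
      rw [mul_comm, mul_smul, pr_X_smul, ha _ (by rw [tot_sub_single]; omega), smul_zero]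

/-- `(X₁, …, Xₙ) • P`. -/
def xP : Submodule (MvPolynomial (Fin n) R) P :=
  ⨆ i : Fin n, LinearMap.range ((LinearMap.lsmul (MvPolynomial (Fin n) R) P) (X i))

omit [SetLike.GradedSMul (MvPolynomial.weightedHomogeneousSubmodule R
  (fun i : Fin n => (Pi.single i 1 : Fin n → ℤ))) ℳ] in
theorem X_smul_mem_xP (i : Fin n) (y : P) :
    (X i : MvPolynomial (Fin n) R) • y ∈ xP (R := R) (n := n) (P := P) :=
  Submodule.mem_iSup_of_mem i ⟨y, rfl⟩

theorem mem_xP {y : P} (hy : y ∈ xP (R := R) (n := n) (P := P)) :
    ∃ z : Fin n → P, y = ∑ i, (X i : MvPolynomial (Fin n) R) • z i := by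
  classical
  induction hy using Submodule.iSup_induction' with
  | mem i y hy =>
    obtain ⟨z, rfl⟩ := hy
    exact ⟨Pi.single i z, by rw [Finset.sum_eq_single i (fun j _ hj => by simp [hj]) (by simp)]; simp⟩
  | zero => exact ⟨0, by simp⟩
  | add a b _ _ ha hb =>
    obtain ⟨z, rfl⟩ := ha
    obtain ⟨z', rfl⟩ := hb
    exact ⟨z + z', by simp [smul_add, Finset.sum_add_distrib]⟩

theorem exists_homogeneous_basis [Module.Finite (MvPolynomial (Fin n) R) P]
    [Module.Projective (MvPolynomial (Fin n) R) P] (p : PrimeSpectrum R) :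
    ∃ r : R, r ∉ p.asIdeal ∧ ∃ (m : ℕ) (d : Fin m → (Fin n → ℤ)) (f : Fin m → P), (∀ i, f i ∈ ℳ (d i)) ∧
      (∀ q : P, ∃ (N : ℕ) (c : Fin m → MvPolynomial (Fin n) R), (C r : MvPolynomial (Fin n) R) ^ N • q = ∑ i, c i • f i) ∧
      (∀ c : Fin m → MvPolynomial (Fin n) R, ∑ i, c i • f i = 0 →
        ∃ N : ℕ, ∀ i, (C r : MvPolynomial (Fin n) R) ^ N * c i = 0) := by
  classical
  let A := MvPolynomial (Fin n) R
  obtain ⟨k, g, δ, hgm, hg⟩ := exists_homogeneous_generators ℳ
  let s := Fintype.linearCombination A g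
  have hs : Function.Surjective s :=
    LinearMap.range_eq_top.1 (by rw [Fintype.range_linearCombination, hg])
  obtain ⟨t, ht⟩ := Module.projective_lifting_property s LinearMap.id hs
  have hst : ∀ y, ∑ j, t y j • g j = y := fun y => by
    have := LinearMap.congr_fun ht y
    simpa [s, Fintype.linearCombination_apply] using this
  -- the fibre at the origin
  let Q := P ⧸ xP (R := R) (n := n) (P := P)
  let π := Submodule.Quotient.mk (p := xP (R := R) (n := n) (P := P))
  have hπ : ∀ (a : A) (y : P), π (a • y) = constantCoeff a • π y := by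
    intro a y
    induction a using MvPolynomial.induction_on generalizing y with
    | C r => rw [C_smul, constantCoeff_C]; rfl
    | add a b ha hb => rw [add_smul, map_add, add_smul, ← ha, ← hb]; rfl
    | mul_X a i _ =>
      rw [map_mul, constantCoeff_X, mul_zero, zero_smul, mul_comm, mul_smul]
      exact (Submodule.Quotient.mk_eq_zero _).2 (X_smul_mem_xP i _)
  let gb : Fin k → Q := fun j => π (g j)
  have hgbar : ∀ y, π y = ∑ j, constantCoeff (t y j) • gb j := fun y => by
    conv_lhs => rw [← hst y]
    rw [show π (∑ j, t y j • g j) = ∑ j, π (t y j • g j) from map_sum (Submodule.mkQ _) _ _]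
    simp only [hπ, gb]
  have hspanQ : Submodule.span R (Set.range gb) = ⊤ := eq_top_iff.2 fun q _ => by
    obtain ⟨y, rfl⟩ := Submodule.Quotient.mk_surjective _ q
    rw [show Submodule.Quotient.mk y = π y from rfl, hgbar]
    exact Submodule.sum_mem _ fun j _ => Submodule.smul_mem _ _ (Submodule.subset_span ⟨j, rfl⟩)
  haveI : Module.Finite R Q := ⟨⟨Finset.univ.image gb, by simpa using hspanQ⟩⟩
  haveI : Module.Projective R Q := by
    let τ₀ : P →ₗ[R] (Fin k → R) :=
      { toFun := fun y j => constantCoeff (t y j)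
        map_add' := fun y z => funext fun j => by simp
        map_smul' := fun r y => funext fun j => by
          rw [← C_smul (n := n), map_smul]
          simp }
    let τ : Q →ₗ[R] (Fin k → R) :=
      { toFun := Quotient.lift τ₀ fun y z h => by
          obtain ⟨w, hw⟩ := mem_xP ((Submodule.quotientRel_def _).1 h)
          refine sub_eq_zero.1 ?_
          rw [← map_sub, hw]
          refine funext fun j => ?_
          show constantCoeff (t (∑ i, (X i : A) • w i) j) = 0
          simp
        map_add' := fun a b => Quotient.inductionOn₂' a b fun y z => τ₀.map_add y z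
        map_smul' := fun r a => Quotient.inductionOn' a fun y => τ₀.map_smul r y }
    refine Module.Projective.of_split τ (Fintype.linearCombination R gb) (LinearMap.ext fun q => ?_)
    obtain ⟨y, rfl⟩ := Submodule.Quotient.mk_surjective _ q
    rw [LinearMap.comp_apply, Fintype.linearCombination_apply]
    exact (hgbar y).symm
  obtain ⟨r, m, a, hr, hgen, hrel⟩ := exists_basis_near gb hspanQ p.asIdeal
  let f : Fin m → P := fun i => g (a i)
  refine ⟨r, hr, m, fun i => δ (a i), f, fun i => hgm _, ?_⟩
  let φ := Fintype.linearCombination A f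
  -- generation
  obtain ⟨D, hD⟩ := exists_lower_bound ℳ
  have hbase : ∀ (l : ℕ) (d : Fin n → ℤ), tot d < D + l → ∀ q ∈ ℳ d,
      ∃ N : ℕ, (C r : A) ^ N • q ∈ LinearMap.range φ := by
    intro l
    induction l with
    | zero =>
      intro d hd q hq
      refine ⟨0, ?_⟩
      rw [← pr_same ℳ hq, hD d (by simpa using hd) q, smul_zero]
      exact zero_mem _
    | succ l ih =>
      intro d hd q hq
      obtain ⟨c, hc⟩ := hgen (π q)
      have hmem : r • q - ∑ i, c i • f i ∈ xP (R := R) (n := n) (P := P) := by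
        refine (Submodule.Quotient.mk_eq_zero _).1 ?_
        rw [Submodule.Quotient.mk_sub, Submodule.Quotient.mk_smul]
        rw [show Submodule.Quotient.mk (∑ i, c i • f i) = ∑ i, c i • π (f i) from
          (map_sum (Submodule.mkQ _) _ _).trans (Finset.sum_congr rfl fun i _ => Submodule.Quotient.mk_smul _ _ _)]
        exact sub_eq_zero.2 hc
      obtain ⟨z, hz⟩ := mem_xP hmem
      choose N hN using fun i => ih (d - Pi.single i 1) (by rw [tot_sub_single]; push_cast at hd ⊢; omega)
        (pr ℳ (d - Pi.single i 1) (z i)) (pr_mem ℳ _ _)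
      obtain ⟨M, hM⟩ := Finite.exists_le N
      refine ⟨M + 1, ?_⟩
      have hq' := congrArg (pr ℳ d) (sub_eq_iff_eq_add.1 hz)
      rw [map_smul, pr_same ℳ hq, map_add, map_sum, map_sum] at hq'
      simp only [pr_X_smul, map_smul] at hq'
      rw [pow_succ, mul_smul, C_smul (n := n) r q, hq', smul_add, Finset.smul_sum, Finset.smul_sum]
      refine add_mem (Submodule.sum_mem _ fun i _ => ?_) (Submodule.sum_mem _ fun i _ => ?_)
      · rw [smul_comm, ← Nat.sub_add_cancel (hM i), pow_add, mul_smul]
        exact Submodule.smul_mem _ _ (Submodule.smul_mem _ _ (hN i))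
      · rw [← C_smul (n := n) (c i)]
        refine Submodule.smul_mem _ _ (Submodule.smul_mem _ _ ?_)
        by_cases h : δ (a i) = d
        · rw [← h, pr_same ℳ (hgm (a i))]
          exact ⟨Pi.single i 1, by simp [φ, f, Fintype.linearCombination_apply_single]⟩
        · rw [pr_ne ℳ (hgm (a i)) h]
          exact zero_mem _
  have hcover : ∀ q : P, ∃ N : ℕ, (C r : A) ^ N • q ∈ LinearMap.range φ := by
    intro q
    induction q using DirectSum.Decomposition.inductionOn ℳ with
    | zero => exact ⟨0, by simp⟩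
    | @homogeneous d q => exact hbase ((tot d - D).toNat + 1) d (by push_cast; omega) q q.2
    | add q q' hq hq' =>
      obtain ⟨N, hN⟩ := hq
      obtain ⟨N', hN'⟩ := hq'
      refine ⟨N + N', ?_⟩
      rw [smul_add, pow_add]
      exact add_mem (by rw [mul_comm, mul_smul]; exact Submodule.smul_mem _ _ hN)
        (by rw [mul_smul]; exact Submodule.smul_mem _ _ hN')
  refine ⟨fun q => ?_, fun c hc => ?_⟩
  · obtain ⟨N, c, hc⟩ := hcover q
    exact ⟨N, c, by rw [← hc]; exact Fintype.linearCombination_apply _ _ c⟩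
  -- independence
  choose N u hu using fun j => hcover (g j)
  obtain ⟨M, hM⟩ := Finite.exists_le N
  let ν : P →ₗ[A] (Fin m → A) :=
    Fintype.linearCombination A (fun j => (C r : A) ^ (M - N j) • u j) ∘ₗ t
  have hν : ∀ y, φ (ν y) = (C r : A) ^ M • y := by
    intro y
    show φ (Fintype.linearCombination A _ (t y)) = _
    conv_rhs => rw [← hst y]
    simp only [Fintype.linearCombination_apply A _ (t y), map_sum, map_smul, hu, Finset.smul_sum, smul_smul]
    refine Finset.sum_congr rfl fun j _ => congrArg (· • g j) ?_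
    rw [mul_assoc, ← pow_add, Nat.sub_add_cancel (hM j), mul_comm]
  let F : (Fin m → A) →ₗ[A] (Fin m → A) := (C r : A) ^ M • LinearMap.id - ν ∘ₗ φ
  have hF : ∀ l i, C r * F (Pi.single l 1) i ∈ idealOfVars (Fin n) R := by
    intro l i
    have h0 : φ (F (Pi.single l 1)) = 0 := by
      simp only [F, LinearMap.sub_apply, LinearMap.smul_apply, LinearMap.id_apply, LinearMap.comp_apply,
        map_sub, map_smul, hν, sub_self]
    have h1 : ∑ i, constantCoeff (F (Pi.single l 1) i) • gb (a i) = 0 := by
      have := congrArg π h0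
      rw [Fintype.linearCombination_apply, show π (∑ i, F (Pi.single l 1) i • f i) =
        ∑ i, π (F (Pi.single l 1) i • f i) from map_sum (Submodule.mkQ _) _ _] at this
      simpa [hπ, f, gb, π] using this
    rw [← pow_one (idealOfVars (Fin n) R), mem_pow_idealOfVars_iff']
    intro x hx
    have hx0 : x = 0 := (Finsupp.degree_eq_zero_iff x).1 (by omega)
    subst hx0
    rw [coeff_C_mul, ← constantCoeff_eq]
    exact hrel _ h1 i
  have hpow : ∀ l i, (C r : A) ^ ((M + 1) * l) * c i ∈ idealOfVars (Fin n) R ^ l := by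
    intro l
    induction l with
    | zero => intro i; simp
    | succ l ih =>
      intro i
      have hFc : ∀ i, F c i = (C r : A) ^ M * c i := fun i => by
        simp [F, φ, Fintype.linearCombination_apply, hc]
      have hexp : F c i = ∑ j, c j * F (Pi.single j 1) i := by
        conv_lhs => rw [show c = ∑ j, c j • Pi.single j (1 : A) by
          funext x; simp [Finset.sum_apply, Pi.single_apply]]
        simp
      have e : (C r : A) ^ ((M + 1) * (l + 1)) * c i =
          ∑ j, ((C r : A) ^ ((M + 1) * l) * c j) * (C r * F (Pi.single j 1) i) := by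
        calc (C r : A) ^ ((M + 1) * (l + 1)) * c i
            = (C r : A) ^ ((M + 1) * l) * C r * ((C r : A) ^ M * c i) := by ring
          _ = _ := by
            rw [← hFc, hexp, Finset.mul_sum]
            exact Finset.sum_congr rfl fun j _ => by ring
      rw [e, pow_succ]
      exact Ideal.sum_mem _ fun j _ => Ideal.mul_mem_mul (ih j) (hF j i)
  obtain ⟨B, hB⟩ := Finite.exists_le fun i => (c i).totalDegree
  refine ⟨(M + 1) * (B + 1), fun i => MvPolynomial.ext _ _ fun x => ?_⟩
  rw [coeff_zero]
  by_cases hx : Finsupp.degree x < B + 1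
  · exact (mem_pow_idealOfVars_iff' _ _).1 (hpow (B + 1) i) x hx
  · rw [← map_pow, coeff_C_mul]
    have : (c i).coeff x = 0 := by
      by_contra h
      have := le_totalDegree (mem_support_iff.2 h)
      have := hB i
      rw [Finsupp.degree_eq_sum] at hx
      simp [Finsupp.sum_fintype] at *
      omega
    rw [this, mul_zero]

end Groth.Agent.GradedFree

end
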